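import Groth.Agent.Lib.CoalgH23.Basic
import Mathlib.RingTheory.Bialgebra.TensorProduct
import Mathlib.RingTheory.Coalgebra.Convolution
import Mathlib.Algebra.CharP.Lemmas
import Mathlib.Algebra.CharP.Algebra
import Mathlib.RingTheory.FiniteType
import Mathlib.LinearAlgebra.FiniteDimensional.Basic

/-!
# Primitive functionals on a Hopf algebra
-/

set_option autoImplicit false
set_option linter.style.haveILetI false
universe u

open TensorProduct WithConv

noncomputable section

namespace Groth.Agent.MuCrit20

variable {k : Type u} [Field k] {A : Type u} [CommRing A] [HopfAlgebra k A]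

local notation "𝔉" => WithConv (A →ₗ[k] k)
local notation "𝔉₂" => WithConv (A ⊗[k] A →ₗ[k] k)

/-- The product functional `a ⊗ b ↦ f a * g b`. -/
def pair (f g : 𝔉) : 𝔉₂ :=
  toConv ((Algebra.TensorProduct.lmul' k (S := k)).toLinearMap ∘ₗ TensorProduct.map f.ofConv g.ofConv)

@[simp] theorem pair_apply (f g : 𝔉) (a b : A) : (pair f g).ofConv (a ⊗ₜ[k] b) = f.ofConv a * g.ofConv b := by
  simp [pair]

theorem pair_mul (f g f' g' : 𝔉) : pair f g * pair f' g' = pair (f * f') (g * g') := by
  apply WithConv.ofConv_injective
  show _ = (Algebra.TensorProduct.lmul' k (S := k)).toLinearMap ∘ₗ TensorProduct.map (f * f').ofConv (g * g').ofConv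
  have h := TensorProduct.map_convMul_map (f := f) (h := f') (g := g) (k := g')
  have h2 := LinearMap.algHom_comp_convMul_distrib (Algebra.TensorProduct.lmul' k (S := k))
    (toConv (TensorProduct.map f.ofConv g.ofConv)) (toConv (TensorProduct.map f'.ofConv g'.ofConv))
  rw [h] at h2
  exact h2.symm

theorem pair_one_one : pair (1 : 𝔉) 1 = 1 := by
  apply WithConv.ofConv_injective
  refine TensorProduct.ext' fun a b => ?_
  simp [LinearMap.convOne_apply, mul_comm]

/-- The left inclusion of functionals. -/
def inL : 𝔉 →ₐ[k] 𝔉₂ :=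
  AlgHom.ofLinearMap
    { toFun := fun f => pair f 1
      map_add' := fun f g => by
        apply WithConv.ofConv_injective
        exact TensorProduct.ext' fun a b => by simp [add_mul]
      map_smul' := fun c f => by
        apply WithConv.ofConv_injective
        exact TensorProduct.ext' fun a b => by simp [mul_assoc] }
    pair_one_one (fun f g => by show pair (f * g) 1 = pair f 1 * pair g 1; rw [pair_mul, one_mul])

/-- The right inclusion of functionals. -/
def inR : 𝔉 →ₐ[k] 𝔉₂ :=
  AlgHom.ofLinearMap
    { toFun := fun f => pair 1 f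
      map_add' := fun f g => by
        apply WithConv.ofConv_injective
        exact TensorProduct.ext' fun a b => by simp [mul_add]
      map_smul' := fun c f => by
        apply WithConv.ofConv_injective
        exact TensorProduct.ext' fun a b => by simp [mul_left_comm] }
    pair_one_one (fun f g => by show pair 1 (f * g) = pair 1 f * pair 1 g; rw [pair_mul, one_mul])

theorem inL_mul_inR (f g : 𝔉) : inL f * inR g = pair f g := by
  show pair f 1 * pair 1 g = _
  rw [pair_mul, mul_one, one_mul]

theorem commute_inL_inR (f g : 𝔉) : Commute (inL f) (inR g) := by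
  show pair f 1 * pair 1 g = pair 1 g * pair f 1
  rw [pair_mul, pair_mul, mul_one, one_mul, one_mul, mul_one]

theorem inL_apply (f : 𝔉) (a b : A) :
    (inL f).ofConv (a ⊗ₜ[k] b) = f.ofConv a * CoalgebraStruct.counit (R := k) b := by
  show (pair f 1).ofConv _ = _
  simp [LinearMap.convOne_apply]

theorem inR_apply (f : 𝔉) (a b : A) :
    (inR f).ofConv (a ⊗ₜ[k] b) = CoalgebraStruct.counit (R := k) a * f.ofConv b := by
  show (pair 1 f).ofConv _ = _
  simp [LinearMap.convOne_apply]

/-- Evaluation on products. -/
def onMul : 𝔉 →ₐ[k] 𝔉₂ :=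
  AlgHom.ofLinearMap
    { toFun := fun f => toConv (f.ofConv ∘ₗ LinearMap.mul' k A)
      map_add' := fun f g => rfl
      map_smul' := fun c f => rfl }
    (by
      apply WithConv.ofConv_injective
      refine TensorProduct.ext' fun a b => ?_
      show CoalgebraStruct.counit (R := k) (a * b) = (1 : 𝔉₂).ofConv (a ⊗ₜ[k] b)
      simp [LinearMap.convOne_apply, mul_comm])
    (fun f g => by
      apply WithConv.ofConv_injective
      exact LinearMap.convMul_comp_coalgHom_distrib f g (Bialgebra.mulCoalgHom k A))

theorem onMul_apply (f : 𝔉) (a b : A) : (onMul f).ofConv (a ⊗ₜ[k] b) = f.ofConv (a * b) := by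
  show (f.ofConv ∘ₗ LinearMap.mul' k A) (a ⊗ₜ[k] b) = _
  simp

variable (k A)

/-- The Lie algebra: functionals which are primitive for the product. -/
def der : Submodule k (WithConv (A →ₗ[k] k)) where
  carrier := {d | onMul d = inL d + inR d}
  add_mem' := fun {a b} ha hb => by
    simp only [Set.mem_setOf_eq] at ha hb ⊢
    rw [map_add, map_add, map_add, ha, hb]; abel
  zero_mem' := by simp
  smul_mem' := fun c {x} hx => by
    simp only [Set.mem_setOf_eq] at hx ⊢
    rw [map_smul, map_smul, map_smul, hx, smul_add]

variable {k A}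

theorem mem_der_iff {d : 𝔉} : d ∈ der k A ↔
    ∀ a b, d.ofConv (a * b) = d.ofConv a * CoalgebraStruct.counit (R := k) b +
      CoalgebraStruct.counit (R := k) a * d.ofConv b := by
  constructor
  · intro h a b
    have := congrArg (fun x : 𝔉₂ => x.ofConv (a ⊗ₜ[k] b)) h
    simpa [onMul_apply, inL_apply, inR_apply] using this
  · intro h
    apply WithConv.ofConv_injective
    refine TensorProduct.ext' fun a b => ?_
    rw [WithConv.ofConv_add, LinearMap.add_apply, onMul_apply, inL_apply, inR_apply, h]

theorem der_apply_one {d : 𝔉} (h : d ∈ der k A) : d.ofConv 1 = 0 := by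
  have := mem_der_iff.1 h 1 1
  simp only [mul_one, Bialgebra.counit_one, one_mul] at this
  simpa using this

theorem commutator_mem_der {d e : 𝔉} (hd : d ∈ der k A) (he : e ∈ der k A) : d * e - e * d ∈ der k A := by
  show onMul (d * e - e * d) = inL (d * e - e * d) + inR (d * e - e * d)
  simp only [map_sub, map_mul, show onMul d = inL d + inR d from hd, show onMul e = inL e + inR e from he]
  rw [mul_add, add_mul, add_mul, mul_add, add_mul, add_mul, (commute_inL_inR d e).eq, (commute_inL_inR e d).eq]
  abel

instance : Nontrivial 𝔉 :=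
  ⟨⟨1, 0, fun h => by
    have := congrArg (fun x : 𝔉 => x.ofConv 1) h
    simp [LinearMap.convOne_apply] at this⟩⟩

instance : Nontrivial 𝔉₂ :=
  ⟨⟨1, 0, fun h => by
    have := congrArg (fun x : 𝔉₂ => x.ofConv ((1 : A) ⊗ₜ[k] (1 : A))) h
    simp [LinearMap.convOne_apply] at this⟩⟩

theorem pow_p_mem_der (p : ℕ) [Fact p.Prime] [CharP k p] {d : 𝔉} (hd : d ∈ der k A) : d ^ p ∈ der k A := by
  haveI : CharP 𝔉₂ p := charP_of_injective_algebraMap (algebraMap k 𝔉₂).injective p
  haveI : ExpChar 𝔉₂ p := ExpChar.prime Fact.out
  show onMul (d ^ p) = inL (d ^ p) + inR (d ^ p)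
  simp only [map_pow, show onMul d = inL d + inR d from hd]
  exact add_pow_char_of_commute p (commute_inL_inR d d)

theorem finite_der [Algebra.FiniteType k A] : Module.Finite k (der k A) := by
  obtain ⟨G, hG⟩ := Algebra.FiniteType.out (R := k) (A := A)
  let f : der k A →ₗ[k] (↥G → k) :=
    { toFun := fun d x => (d : 𝔉).ofConv (x : A)
      map_add' := fun _ _ => rfl
      map_smul' := fun _ _ => rfl }
  refine Module.Finite.of_injective f fun d e hde => ?_
  refine Subtype.ext (WithConv.ofConv_injective (LinearMap.ext fun a => ?_))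
  have ha : a ∈ Algebra.adjoin k (G : Set A) := hG ▸ trivial
  induction ha using Algebra.adjoin_induction with
  | mem x hx => exact congrFun hde ⟨x, hx⟩
  | algebraMap c =>
    rw [Algebra.algebraMap_eq_smul_one, map_smul, map_smul, der_apply_one d.2, der_apply_one e.2]
  | add x y _ _ hx hy => rw [map_add, map_add, hx, hy]
  | mul x y _ _ hx hy => rw [mem_der_iff.1 d.2, mem_der_iff.1 e.2, hx, hy]

end Groth.Agent.MuCrit20
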