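import Groth.Agent.Lib.MuCrit20.Toral
import Groth.Agent.Lib.HeightOne.Local
import Groth.Agent.Lib.CoalgH23.Filtration
import Mathlib.Algebra.Lie.Engel
import Mathlib.Algebra.Lie.Abelian
import Mathlib.Algebra.Lie.OfAssociative
import Mathlib.RingTheory.MvPolynomial.Ideal
import Mathlib.Algebra.MvPolynomial.PDeriv
import Mathlib.RingTheory.HopfAlgebra.Convolution

/-!
# Groups of height one with nilpotent Lie algebra are unipotent
-/

set_option autoImplicit false
set_option linter.style.haveILetI false
universe u

open TensorProduct WithConv HopfRep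
open scoped Groth.Agent.CoalgH23

noncomputable section

namespace Groth.Agent.MuCrit20

attribute [local instance] LieRing.ofAssociativeRing

variable (k : Type u) [Field k] (A : Type u) [CommRing A] [HopfAlgebra k A]

/-- Every element of the Lie algebra is nilpotent in the convolution algebra. -/
def LieNil : Prop := ∀ d ∈ der k A, IsNilpotent d

variable {k A}

theorem LieNil.of_surjective (h : LieNil k A) {B : Type u} [CommRing B] [HopfAlgebra k B]
    (π : A →ₐc[k] B) (hπ : Function.Surjective π) : LieNil k B := by
  intro d hd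
  let f : A →ₗ[k] B := (π : A →ₐ[k] B).toLinearMap
  let φ : WithConv (B →ₗ[k] k) →ₐ[k] WithConv (A →ₗ[k] k) := AlgHom.ofLinearMap
    { toFun := fun g => toConv (g.ofConv ∘ₗ f), map_add' := fun _ _ => rfl, map_smul' := fun _ _ => rfl }
    (by
      apply WithConv.ofConv_injective
      refine LinearMap.ext fun a => ?_
      show CoalgebraStruct.counit (R := k) (π a) = CoalgebraStruct.counit (R := k) a
      exact CoalgHomClass.counit_comp_apply π a)
    (fun g g' => by
      apply WithConv.ofConv_injective
      exact LinearMap.convMul_comp_coalgHom_distrib g g' (π : A →ₗc[k] B))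
  have hinj : Function.Injective φ := by
    intro g g' hgg
    refine WithConv.ofConv_injective (LinearMap.ext fun b => ?_)
    obtain ⟨a, rfl⟩ := hπ b
    exact congrArg (fun x : WithConv (A →ₗ[k] k) => x.ofConv a) hgg
  refine (IsNilpotent.map_iff hinj).1 (h (φ d) (mem_der_iff.2 fun a b => ?_))
  show d.ofConv (π (a * b)) = d.ofConv (π a) * _ + _ * d.ofConv (π b)
  rw [map_mul, mem_der_iff.1 hd, CoalgHomClass.counit_comp_apply, CoalgHomClass.counit_comp_apply]

section Toral

variable (p : ℕ) [Fact p.Prime] [CharP k p]

/-- Without subgroups `μ_p`, the Lie algebra is nilpotent. -/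
theorem lieNil_of_no_mu [IsAlgClosed k] [Algebra.FiniteType k A]
    (h : ¬ ∃ φ : A →ₐc[k] MonoidAlgebra k (Multiplicative (ZMod p)), Function.Surjective φ) :
    LieNil k A := by
  intro d hd
  by_contra hnil
  apply h
  haveI : CharP (WithConv (A →ₗ[k] k)) p :=
    charP_of_injective_algebraMap (algebraMap k (WithConv (A →ₗ[k] k))).injective p
  haveI : ExpChar (WithConv (A →ₗ[k] k)) p := ExpChar.prime Fact.out
  let W : Submodule k (WithConv (A →ₗ[k] k)) := der k A ⊓ Subalgebra.toSubmodule (Algebra.adjoin k {d})
  haveI := finite_der (k := k) (A := A)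
  haveI : Module.Finite k W := Submodule.finiteDimensional_of_le inf_le_left
  have hcomm : ∀ x y : W, Commute (x : WithConv (A →ₗ[k] k)) y := by
    intro x y
    have hx : (x : WithConv (A →ₗ[k] k)) ∈ Algebra.adjoin k {d} := x.2.2
    have hy : (y : WithConv (A →ₗ[k] k)) ∈ Algebra.adjoin k {d} := y.2.2
    rw [Algebra.adjoin_singleton_eq_range_aeval] at hx hy
    obtain ⟨P, hP⟩ := hx
    obtain ⟨Q, hQ⟩ := hy
    rw [← hP, ← hQ]
    exact (Commute.all P Q).map _
  let F : W →+ W :=
    { toFun := fun x => ⟨(x : WithConv (A →ₗ[k] k)) ^ p,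
        ⟨pow_p_mem_der p x.2.1, (Algebra.adjoin k {d}).pow_mem x.2.2 p⟩⟩
      map_zero' := Subtype.ext (zero_pow (Fact.out : p.Prime).ne_zero)
      map_add' := fun x y => Subtype.ext (add_pow_expChar_of_commute p (hcomm x y)) }
  have hF : ∀ (c : k) (x : W), F (c • x) = c ^ p • F x := fun c x => Subtype.ext (smul_pow c _ p)
  obtain ⟨m, N, b, -, hli, hfix, hN⟩ := SigmaFix.exists_fixed_family p F hF
  have hit : ∀ (j : ℕ) (x : W), (((⇑F)^[j] x : W) : WithConv (A →ₗ[k] k)) = (x : WithConv (A →ₗ[k] k)) ^ p ^ j := by
    intro j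
    induction j with
    | zero => intro x; simp
    | succ j ih =>
      intro x
      rw [Function.iterate_succ_apply']
      show (((⇑F)^[j] x : W) : WithConv (A →ₗ[k] k)) ^ p = _
      rw [ih, ← pow_mul, ← pow_succ]
  rcases Nat.eq_zero_or_pos m with rfl | hm
  · exfalso
    apply hnil
    refine ⟨p ^ N, ?_⟩
    let x : W := ⟨d, hd, Algebra.subset_adjoin rfl⟩
    have h0 := hN x
    rw [Set.range_eq_empty b, Submodule.span_empty, Submodule.mem_bot] at h0
    rw [show d ^ p ^ N = (((⇑F)^[N] x : W) : WithConv (A →ₗ[k] k)) from (hit N x).symm, h0]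
    rfl
  · exact exists_mu_of_toral p (D := (b ⟨0, hm⟩ : WithConv (A →ₗ[k] k))) (b ⟨0, hm⟩).2.1
      (fun h0 => hli.ne_zero ⟨0, hm⟩ (Subtype.ext h0)) (congrArg Subtype.val (hfix ⟨0, hm⟩))

variable [Algebra.FiniteType k A]

open MvPolynomial in
/-- On a group of height one, the functions killed by all derivations are constants. -/
theorem eq_const_of_derivations (h1 : ∀ a : A, Bialgebra.counitAlgHom k A a = 0 → a ^ p = 0) {b : A}
    (hb : ∀ E : Derivation k A A, E b = 0) : ∃ c : k, b = algebraMap k A c := by
  haveI : Algebra.FinitePresentation k A := Algebra.FinitePresentation.of_finiteType.1 inferInstance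
  obtain ⟨n, ⟨e⟩⟩ := HeightOne.exists_algEquiv p k A h1
  set I : Ideal (MvPolynomial (Fin n) k) :=
    Ideal.span (Set.range fun i : Fin n => (MvPolynomial.X i : MvPolynomial (Fin n) k) ^ p) with hI
  let π : MvPolynomial (Fin n) k →ₐ[k] A := e.symm.toAlgHom.comp (Ideal.Quotient.mkₐ k I)
  have hπ : Function.Surjective π := e.symm.surjective.comp (Ideal.Quotient.mkₐ_surjective k I)
  have hker : ∀ P, π P = 0 ↔ P ∈ I := fun P => by
    show e.symm (Ideal.Quotient.mk I P) = 0 ↔ _
    rw [map_eq_zero_iff _ e.symm.injective, Ideal.Quotient.eq_zero_iff_mem]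
  have hstab : ∀ (i : Fin n), ∀ P ∈ I, pderiv i P ∈ I := by
    intro i P hP
    induction hP using Submodule.span_induction with
    | mem x hx =>
      obtain ⟨j, rfl⟩ := hx
      rw [Derivation.leibniz_pow, nsmul_eq_mul]
      simp
    | zero => simp
    | add x y _ _ hx hy => rw [map_add]; exact add_mem hx hy
    | smul r x hx' hx =>
      rw [smul_eq_mul, Derivation.leibniz, smul_eq_mul, smul_eq_mul]
      exact add_mem (I.mul_mem_left _ hx) (I.mul_mem_right _ hx')
  choose rep hrep using hπ
  have hE : ∀ i P, π (pderiv i (rep (π P))) = π (pderiv i P) := fun i P => by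
    rw [← sub_eq_zero, ← map_sub, ← map_sub, hker]
    exact hstab i _ ((hker _).1 (by rw [map_sub, hrep, sub_self]))
  have hlin : ∀ i (P Q : MvPolynomial (Fin n) k) (c : k),
      π (pderiv i (rep (π P + c • π Q))) = π (pderiv i (rep (π P))) + c • π (pderiv i (rep (π Q))) := by
    intro i P Q c
    rw [← map_smul, ← map_add, hE, hE, hE, map_add, map_add, Derivation.map_smul, map_smul]
  let E : Fin n → Derivation k A A := fun i => Derivation.mk'
    { toFun := fun a => π (pderiv i (rep a))
      map_add' := fun x y => by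
        simpa [hrep] using hlin i (rep x) (rep y) 1
      map_smul' := fun c x => by
        have h0 : π (pderiv i (rep 0)) = 0 := by simpa using hE i 0
        simpa [hrep, h0] using hlin i 0 (rep x) c }
    (fun x y => by
      show π (pderiv i (rep (x * y))) = _
      conv_lhs => rw [← hrep x, ← hrep y, ← map_mul]
      rw [hE, Derivation.leibniz, map_add, smul_eq_mul, smul_eq_mul, map_mul, map_mul, hrep, hrep]
      rfl)
  set P := rep b
  refine ⟨MvPolynomial.coeff 0 P, ?_⟩
  rw [← hrep b, ← AlgHom.commutes π, ← sub_eq_zero, ← map_sub, hker]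
  have hd : ∀ i, pderiv i P ∈ I := fun i => (hker _).1 (hb (E i))
  have hS : I = Ideal.span ((fun s => monomial s (1 : k)) '' Set.range fun i : Fin n => Finsupp.single i p) := by
    rw [hI, ← Set.range_comp]
    congr 1
    ext1
    simp [X_pow_eq_monomial]
  rw [hS, mem_ideal_span_monomial_image]
  intro s hs
  by_contra hno
  push Not at hno
  have hlt : ∀ j, s j < p := fun j => by
    by_contra hj
    exact hno _ ⟨j, rfl⟩ (Finsupp.single_le_iff.2 (not_lt.1 hj))
  have hs0 : s ≠ 0 := by
    rintro rfl
    simp [MvPolynomial.algebraMap_eq, P] at hs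
  obtain ⟨i, hi⟩ : ∃ i, s i ≠ 0 := by
    by_contra h0
    push Not at h0
    exact hs0 (Finsupp.ext h0)
  have hcoef : coeff s P ≠ 0 := by
    have := mem_support_iff.1 hs
    rwa [coeff_sub, MvPolynomial.algebraMap_eq, coeff_C, if_neg (Ne.symm hs0), sub_zero] at this
  have hmem := hd i
  rw [hS, mem_ideal_span_monomial_image] at hmem
  obtain ⟨si, ⟨j, rfl⟩, hle⟩ := hmem (s - Finsupp.single i 1) (mem_support_iff.2 (by
    rw [coeff_pderiv, tsub_add_cancel_of_le (Finsupp.single_le_iff.2 (Nat.pos_of_ne_zero hi))]
    refine mul_ne_zero hcoef ?_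
    have hsi : (s - Finsupp.single i 1 : Fin n →₀ ℕ) i + 1 = s i := by
      simp [Finsupp.coe_tsub]; omega
    rw [show (((s - Finsupp.single i 1 : Fin n →₀ ℕ) i : ℕ) : k) + 1 = ((s i : ℕ) : k) by
      rw [← hsi, Nat.cast_add, Nat.cast_one], Ne, CharP.cast_eq_zero_iff k p]
    exact fun hdvd => absurd (Nat.le_of_dvd (Nat.pos_of_ne_zero hi) hdvd) (not_le.2 (hlt i))))
  exact absurd ((Finsupp.single_le_iff.1 hle).trans (by simp [Finsupp.coe_tsub])) (not_le.2 (hlt j))

open Groth.Agent.CoalgH23 in
/-- A group of height one with nilpotent Lie algebra is unipotent. -/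
theorem isUnipotent_of_heightOne (h1 : ∀ a : A, Bialgebra.counitAlgHom k A a = 0 → a ^ p = 0)
    (hL : LieNil k A) : IsUnipotent k A := by
  intro V _ _ _ _ _
  let ρ : WithConv (A →ₗ[k] k) →ₐ[k] Module.End k V :=
    { repHom k A V with
      commutes' := fun c => LinearMap.ext fun v => by
        show algebraMap k (WithConv (A →ₗ[k] k)) c • v = c • v
        exact algebraMap_smul' c v }
  let K : LieSubalgebra k (Module.End k V) :=
    { (der k A).map ρ.toLinearMap with
      lie_mem' := fun {x y} hx hy => by
        obtain ⟨d, hd, rfl⟩ := hx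
        obtain ⟨e, he, rfl⟩ := hy
        refine ⟨d * e - e * d, commutator_mem_der hd he, ?_⟩
        show ρ (d * e - e * d) = ⁅ρ d, ρ e⁆
        rw [map_sub, map_mul, map_mul]
        rfl }
  haveI : LieModule.IsNilpotent K V := by
    refine (LieModule.isNilpotent_iff_forall' (R := k)).2 fun x => ?_
    obtain ⟨d, hd, hdx⟩ := x.2
    have : (LieModule.toEnd k K V x : Module.End k V) = ρ d := LinearMap.ext fun v => by
      rw [show ρ d = ρ.toLinearMap d from rfl, hdx]
      rfl
    rw [this]
    exact (hL d hd).map ρ
  haveI := LieModule.nontrivial_max_triv_of_isNilpotent k K V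
  obtain ⟨⟨v, hv⟩, hv0⟩ := exists_ne (0 : LieModule.maxTrivSubmodule k K V)
  refine (Submodule.ne_bot_iff _).2 ⟨v, ?_, fun h => hv0 (Subtype.ext h)⟩
  have hdv : ∀ d ∈ der k A, d • v = 0 := fun d hd =>
    (LieModule.mem_maxTrivSubmodule k K V v).1 hv ⟨ρ d, ⟨d, hd, rfl⟩⟩
  have hcoef : ∀ (φ : V →ₗ[k] k), CoalgebraStruct.counit (R := k) (lslice φ (Comod.coact (k := k) (A := A) v)) = φ v := fun φ => by
    rw [apply_lslice]
    exact congrArg φ (LinearMap.congr_fun actL_counit v)
  have hconst : ∀ (φ : V →ₗ[k] k), lslice φ (Comod.coact (k := k) (A := A) v) =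
      algebraMap k A (φ v) := by
    intro φ
    set b := lslice φ (Comod.coact (k := k) (A := A) v) with hbdef
    have hkill : ∀ d ∈ der k A, slice d.ofConv (CoalgebraStruct.comul (R := k) b) = 0 := fun d hd => by
      show d • b = 0
      exact (lslice_coact_smul φ d v).symm.trans (by rw [hdv d hd, map_zero, map_zero])
    obtain ⟨c, hc⟩ := eq_const_of_derivations p h1 (b := b) fun E => by
      -- `E = id * (S * E)`
      let S : WithConv (A →ₗ[k] A) := toConv (HopfAlgebra.antipode k (A := A))
      let idA : WithConv (A →ₗ[k] A) := toConv LinearMap.id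
      let θ : WithConv (A →ₗ[k] A) := S * toConv E.toLinearMap
      have hdecomp : toConv E.toLinearMap = idA * θ := by
        show _ = idA * (S * _)
        rw [← mul_assoc, show idA * S = 1 from LinearMap.id_mul_antipode, one_mul]
      have hθ : ∀ x y : A, θ.ofConv (x * y) = algebraMap k A (CoalgebraStruct.counit (R := k) x) * θ.ofConv y +
          algebraMap k A (CoalgebraStruct.counit (R := k) y) * θ.ofConv x := by
        have key : ∀ s t : A ⊗[k] A,
            LinearMap.mul' k A (TensorProduct.map S.ofConv E.toLinearMap (s * t)) =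
              LinearMap.mul' k A (TensorProduct.map S.ofConv LinearMap.id s) *
                LinearMap.mul' k A (TensorProduct.map S.ofConv E.toLinearMap t) +
              LinearMap.mul' k A (TensorProduct.map S.ofConv LinearMap.id t) *
                LinearMap.mul' k A (TensorProduct.map S.ofConv E.toLinearMap s) := by
          intro s t
          induction s with
          | zero => simp
          | add x y hx hy => simp only [add_mul, map_add, hx, hy, mul_add]; ring
          | tmul x y =>
            induction t with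
            | zero => simp
            | add z w hz hw => simp only [mul_add, map_add, hz, hw, add_mul]; ring
            | tmul z w =>
              simp only [Algebra.TensorProduct.tmul_mul_tmul, TensorProduct.map_tmul, LinearMap.mul'_apply,
                Derivation.coeFn_coe, Derivation.leibniz, LinearMap.id_coe, id_eq, S,
                HopfAlgebra.antipode_mul_distrib, smul_eq_mul]
              ring
        intro x y
        have hl : ∀ x : A, LinearMap.mul' k A (TensorProduct.map S.ofConv LinearMap.id (CoalgebraStruct.comul (R := k) x)) =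
            algebraMap k A (CoalgebraStruct.counit (R := k) x) := fun x => by
          have := congrArg (fun f : WithConv (A →ₗ[k] A) => f.ofConv x) (LinearMap.antipode_mul_id (R := k) (C := A))
          simp only [LinearMap.convMul_apply, LinearMap.convOne_apply] at this
          exact this
        show LinearMap.mul' k A (TensorProduct.map S.ofConv E.toLinearMap (CoalgebraStruct.comul (R := k) (x * y))) = _
        rw [Bialgebra.comul_mul, key, hl, hl]
        rfl
      have hzero : θ.ofConv.lTensor A (CoalgebraStruct.comul (R := k) b) = 0 := by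
        refine eq_of_slice_eq fun l => ?_
        rw [map_zero, slice_lTensor]
        refine hkill (toConv (l ∘ₗ θ.ofConv)) (mem_der_iff.2 fun x y => ?_)
        show l (θ.ofConv (x * y)) = _
        simp only [hθ, map_add, ← Algebra.smul_def, map_smul, smul_eq_mul]
        show _ = l (θ.ofConv x) * _ + _ * l (θ.ofConv y)
        ring
      have hE := congrArg (fun f : WithConv (A →ₗ[k] A) => f.ofConv b) hdecomp
      simp only [LinearMap.convMul_apply] at hE
      have : ∀ z : A ⊗[k] A, LinearMap.mul' k A (TensorProduct.map idA.ofConv θ.ofConv z) =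
          LinearMap.mul' k A (θ.ofConv.lTensor A z) := fun z => rfl
      rw [this, hzero, map_zero] at hE
      exact hE
    rw [hc]
    congr 1
    have := hcoef φ
    rw [← hbdef, hc, Bialgebra.counit_algebraMap] at this
    exact this
  refine mem_fixedPts_iff'.2 fun χ => ?_
  apply sub_eq_zero.1
  refine (Module.forall_dual_apply_eq_zero_iff k _).1 fun φ => ?_
  rw [map_sub, map_smul φ (χ.ofConv 1) v]
  have h3 : φ (χ • v) = χ.ofConv (lslice φ (Comod.coact (k := k) (A := A) v)) := (apply_lslice φ χ.ofConv _).symm
  rw [h3, hconst, Algebra.algebraMap_eq_smul_one, map_smul]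
  simp [mul_comm]

end Toral

end Groth.Agent.MuCrit20
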