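import Groth.Agent.Lib.MuCrit20.Points
import Mathlib.RingTheory.Ideal.Maximal
import Mathlib.RingTheory.Bialgebra.Hom

/-!
# The subgroup `μ_ℓ` of a non-unipotent point
-/

set_option autoImplicit false
set_option linter.style.haveILetI false
universe u

open TensorProduct HopfRep WithConv
open scoped Groth.Agent.CoalgH23

noncomputable section

namespace Groth.Agent.MuCrit20

open Groth.Agent.CoalgH23

/-- A non-trivial finitely generated abelian group has a quotient of prime order. -/
theorem exists_surjective_zmod (M : Type*) [CommGroup M] [Group.FG M] [Nontrivial M] :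
    ∃ (r : ℕ) (_ : r.Prime) (q : M →* Multiplicative (ZMod r)), Function.Surjective q := by
  haveI : Module.Finite ℤ (Additive M) := Module.Finite.iff_addGroup_fg.mpr inferInstance
  obtain ⟨N, hN, -⟩ := (eq_top_or_exists_le_coatom (⊥ : Submodule ℤ (Additive M))).resolve_left bot_ne_top
  haveI : IsSimpleModule ℤ (Additive M ⧸ N) := isSimpleModule_iff_isCoatom.mpr hN
  obtain ⟨I, hI, ⟨eI⟩⟩ := isSimpleModule_iff_quot_maximal.mp (inferInstance : IsSimpleModule ℤ (Additive M ⧸ N))
  obtain ⟨z, rfl⟩ := (IsPrincipalIdealRing.principal I).principal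
  have hz0 : z ≠ 0 := fun h => Ring.ne_bot_of_isMaximal_of_not_isField hI Int.not_isField (by simp [h])
  have hr : z.natAbs.Prime := Int.prime_iff_natAbs_prime.mp
    ((Ideal.span_singleton_prime hz0).mp hI.isPrime)
  let q : Additive M →+ ZMod z.natAbs := (Int.quotientSpanEquivZMod z).toAddEquiv.toAddMonoidHom.comp
    (eI.toLinearMap.comp N.mkQ).toAddMonoidHom
  have hq : Function.Surjective q :=
    (Int.quotientSpanEquivZMod z).surjective.comp (eI.surjective.comp N.mkQ_surjective)
  exact ⟨z.natAbs, hr, AddMonoidHom.toMultiplicativeRight q, fun y => by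
    obtain ⟨x, hx⟩ := hq (Multiplicative.toAdd y)
    exact ⟨Additive.toMul x, congrArg Multiplicative.ofAdd hx⟩⟩

variable (k : Type u) [Field k] [IsAlgClosed k] (A : Type u) [CommRing A] [HopfAlgebra k A] [Algebra.FiniteType k A]

/-- A non-unipotent point produces a subgroup `μ_ℓ`. -/
theorem exists_mu_of_not_ptsUnip (h : ¬ PtsUnip k A) :
    ∃ (r : ℕ) (_ : r.Prime) (φ : A →ₐc[k] MonoidAlgebra k (Multiplicative (ZMod r))), Function.Surjective φ := by
  classical
  simp only [PtsUnip, not_forall, not_exists] at h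
  obtain ⟨g, a₀, ha₀⟩ := h
  have hsup := iSup_weight g
  have hind : iSupIndep (weight g) :=
    (Module.End.independent_maxGenEigenspace (Comod.act k A A g)).comp Units.val_injective
  obtain ⟨G, hG⟩ := Algebra.FiniteType.out (R := k) (A := A)
  have hdec : ∀ x : A, ∃ f : kˣ →₀ A, (∀ i, f i ∈ weight g i) ∧ (f.sum fun _ xi => xi) = x := fun x =>
    (Submodule.mem_iSup_iff_exists_finsupp _ x).1 (hsup ▸ Submodule.mem_top)
  choose f hf hfsum using hdec
  let F : Finset kˣ := G.biUnion fun x => (f x).support
  let L : Subgroup kˣ := Subgroup.closure (F : Set kˣ)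
  let U : Submodule k A := ⨆ l : L, weight g (l : kˣ)
  have hU1 : (1 : A) ∈ U := Submodule.mem_iSup_of_mem (1 : L) (one_mem_weight g)
  have hUmul : ∀ x y : A, x ∈ U → y ∈ U → x * y ∈ U := by
    intro x y hx hy
    refine Submodule.iSup_induction (motive := fun z => z * y ∈ U) _ hx (fun l x hx => ?_)
      (by simp) (fun p q hp hq => by simpa [add_mul] using add_mem hp hq)
    exact Submodule.iSup_induction (motive := fun z => x * z ∈ U) _ hy
      (fun m y hy => Submodule.mem_iSup_of_mem (l * m) (mul_mem_weight g hx hy))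
      (by simp) (fun p q hp hq => by simpa [mul_add] using add_mem hp hq)
  have hU : ∀ x : A, x ∈ U := by
    intro x
    have hx : x ∈ Algebra.adjoin k (G : Set A) := hG ▸ trivial
    induction hx using Algebra.adjoin_induction with
    | mem y hy =>
      rw [← hfsum y]
      exact Submodule.sum_mem _ fun i hi => Submodule.mem_iSup_of_mem
        ⟨i, Subgroup.subset_closure (Finset.mem_coe.2 (Finset.mem_biUnion.2 ⟨y, hy, hi⟩))⟩ (hf y i)
    | algebraMap c => rw [Algebra.algebraMap_eq_smul_one]; exact U.smul_mem c hU1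
    | add p q _ _ hp hq => exact add_mem hp hq
    | mul p q _ _ hp hq => exact hUmul p q hp hq
  have hzero : ∀ l, l ∉ L → ∀ x ∈ weight g l, x = 0 := by
    intro l hl x hx
    have hle : U ≤ ⨆ j ≠ l, weight g j :=
      iSup_le fun m => le_iSup₂_of_le (m : kˣ) (fun e => hl (e ▸ m.2)) le_rfl
    exact Submodule.disjoint_def.1 (hind l) x hx (hle (hU x))
  have indU : ∀ (C : A → Prop), (∀ (l : L) (x : A), x ∈ weight g (l : kˣ) → C x) → C 0 →
      (∀ p q, C p → C q → C (p + q)) → ∀ x, C x := fun C h1 h0 ha x =>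
    Submodule.iSup_induction (motive := C) _ (hU x) h1 h0 ha
  haveI : Group.FG L := Group.closure_finite_fg (F : Set kˣ)
  haveI : Nontrivial L := by
    rw [Subgroup.nontrivial_iff_ne_bot]
    intro hb
    have hle : U ≤ weight g 1 := iSup_le fun l => by
      rw [show (l : kˣ) = 1 from Subgroup.mem_bot.1 (hb ▸ l.2)]
    obtain ⟨n, hn⟩ := (Module.End.mem_maxGenEigenspace _ _ _).1 (hle (hU a₀))
    apply ha₀ n
    simpa using hn
  obtain ⟨r, hr, q, hq⟩ := exists_surjective_zmod L
  let E := MonoidAlgebra k (Multiplicative (ZMod r))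
  let ψ : kˣ → E := fun l => if hl : l ∈ L then MonoidAlgebra.single (q ⟨l, hl⟩) 1 else 0
  let φl : ∀ l : kˣ, weight g l →ₗ[k] E := fun l =>
    ((CoalgebraStruct.counit (R := k)).comp (weight g l).subtype).smulRight (ψ l)
  let e := LinearEquiv.ofBijective (DirectSum.coeLinearMap (weight g))
    (DirectSum.isInternal_submodule_of_iSupIndep_of_iSup_eq_top hind hsup)
  let P : A →ₗ[k] E := DirectSum.toModule k kˣ E φl ∘ₗ e.symm.toLinearMap
  have hP : ∀ (l : kˣ) (x : A), x ∈ weight g l → P x = CoalgebraStruct.counit (R := k) x • ψ l := by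
    intro l x hx
    have : e.symm x = DirectSum.lof k kˣ (fun l => weight g l) l ⟨x, hx⟩ := by
      rw [LinearEquiv.symm_apply_eq]
      exact (DirectSum.coeLinearMap_of (weight g) l ⟨x, hx⟩).symm
    show DirectSum.toModule k kˣ E φl (e.symm x) = _
    rw [this, DirectSum.toModule_lof]
    rfl
  have hψ : ∀ l (hl : l ∈ L), ψ l = MonoidAlgebra.single (q ⟨l, hl⟩) 1 := fun l hl => dif_pos hl
  have hψmul : ∀ l m : L, ψ ((l * m : L) : kˣ) = ψ l * ψ m := by
    intro l m
    rw [hψ _ (l * m).2, hψ _ l.2, hψ _ m.2, MonoidAlgebra.single_mul_single, mul_one, ← map_mul]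
  have hP1 : P 1 = 1 := by
    rw [hP 1 1 (one_mem_weight g), Bialgebra.counit_one, one_smul, hψ 1 L.one_mem,
      show (⟨1, L.one_mem⟩ : L) = 1 from rfl, map_one]
    rfl
  have hPmul : ∀ x y : A, P (x * y) = P x * P y := by
    intro x y
    refine indU (fun x => P (x * y) = P x * P y) (fun l x hx => ?_) (by simp)
      (fun p q hp hq => by rw [add_mul, map_add, map_add, hp, hq, add_mul]) x
    refine indU (fun y => P (x * y) = P x * P y) (fun m y hy => ?_) (by simp)
      (fun p q hp hq => by rw [mul_add, map_add, map_add, hp, hq, mul_add]) y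
    rw [hP _ x hx, hP _ y hy, hP _ (x * y) (mul_mem_weight g hx hy), Bialgebra.counit_mul,
      smul_mul_smul_comm, ← hψmul]
    rfl
  let Φ : A →ₐ[k] E := AlgHom.ofLinearMap P hP1 hPmul
  have hcε : (Bialgebra.counitAlgHom k E).comp Φ = Bialgebra.counitAlgHom k A := by
    refine AlgHom.ext fun x => indU (fun x => ((Bialgebra.counitAlgHom k E).comp Φ) x = Bialgebra.counitAlgHom k A x)
      (fun l x hx => ?_) (by simp) (fun p q hp hq => by simp only [map_add, hp, hq]) x
    show CoalgebraStruct.counit (R := k) (P x) = CoalgebraStruct.counit (R := k) x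
    rw [hP _ x hx, map_smul, hψ _ l.2, MonoidAlgebra.counit_single]
    simp
  have hε' : ∀ x, CoalgebraStruct.counit (R := k) (P x) = CoalgebraStruct.counit (R := k) x := fun x =>
    AlgHom.congr_fun hcε x
  let φ : A →ₐc[k] E := BialgHom.ofAlgHom Φ hcε (by
    refine AlgHom.ext fun x => indU (fun x => ((Algebra.TensorProduct.map Φ Φ).comp (Bialgebra.comulAlgHom k A)) x =
        ((Bialgebra.comulAlgHom k E).comp Φ) x)
      (fun l x hx => ?_) (by simp) (fun p q hp hq => by simp only [map_add, hp, hq]) x
    ·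
      obtain ⟨z, hz⟩ := comul_mem_weight g hx
      show Algebra.TensorProduct.map Φ Φ (CoalgebraStruct.comul (R := k) x) = CoalgebraStruct.comul (R := k) (P x)
      have hgoal : Algebra.TensorProduct.map Φ Φ (CoalgebraStruct.comul (R := k) x) =
          P (TensorProduct.rid k A ((CoalgebraStruct.counit (R := k)).lTensor A (CoalgebraStruct.comul (R := k) x))) ⊗ₜ[k] ψ l := by
        rw [← hz]
        clear hz
        induction z with
        | zero => simp
        | add p q hp hq => simp only [map_add, TensorProduct.add_tmul, hp, hq]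
        | tmul p q =>
          simp only [LinearMap.lTensor_tmul, Submodule.subtype_apply, TensorProduct.rid_tmul,
            Algebra.TensorProduct.map_tmul, map_smul]
          show P p ⊗ₜ[k] P q = _
          rw [hP _ _ q.2, TensorProduct.tmul_smul, TensorProduct.smul_tmul']
      rw [hgoal, Coalgebra.lTensor_counit_comul, TensorProduct.rid_tmul, one_smul, hP _ x hx, map_smul,
        hψ _ l.2, MonoidAlgebra.comul_single, ← TensorProduct.smul_tmul']
      simp
      done)
  refine ⟨r, hr, φ, ?_⟩
  -- the weights generate `L`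
  let S : Subalgebra k E := Φ.range
  let N : Submonoid L := Submonoid.comap q
    { carrier := {z | MonoidAlgebra.single z 1 ∈ S}
      one_mem' := S.one_mem
      mul_mem' := fun {a b} ha hb => by
        have := S.mul_mem ha hb
        rwa [MonoidAlgebra.single_mul_single, mul_one] at this }
  haveI : NeZero r := ⟨hr.ne_zero⟩
  have hNinv : ∀ l ∈ N, l⁻¹ ∈ N := by
    intro l hl
    have hord : q l ^ r = 1 := by
      apply Multiplicative.toAdd.injective
      simp
    show MonoidAlgebra.single (q l⁻¹) 1 ∈ S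
    rw [map_inv, show (q l)⁻¹ = q l ^ (r - 1) from
      inv_eq_of_mul_eq_one_left (by rw [← pow_succ, Nat.sub_add_cancel hr.pos, hord]), ← map_pow]
    exact N.pow_mem hl (r - 1)
  let N' : Subgroup L := { N with inv_mem' := fun {l} hl => hNinv l hl }
  have hFN : ∀ l (hl : l ∈ F), (⟨l, Subgroup.subset_closure (Finset.mem_coe.2 hl)⟩ : L) ∈ N' := by
    intro l hl
    obtain ⟨y, -, hy⟩ := Finset.mem_biUnion.1 hl
    obtain ⟨x, hx, hεx⟩ : ∃ x ∈ weight g l, CoalgebraStruct.counit (R := k) x ≠ 0 := by
      by_contra hno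
      push Not at hno
      refine Finsupp.mem_support_iff.1 hy ?_
      obtain ⟨z, hz⟩ := comul_mem_weight g (hf y l)
      have h1 := congrArg (TensorProduct.rid k A) (Coalgebra.lTensor_counit_comul (R := k) (f y l))
      rw [TensorProduct.rid_tmul, one_smul, ← hz] at h1
      rw [← h1]
      clear hz h1
      induction z with
      | zero => simp
      | add p q hp hq => simp only [map_add, hp, hq, add_zero]
      | tmul p q => simp [hno _ q.2]
    refine ⟨(CoalgebraStruct.counit (R := k) x)⁻¹ • x, ?_⟩
    show P _ = _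
    rw [map_smul, hP _ x hx, smul_smul, inv_mul_cancel₀ hεx, one_smul, hψ]
  have hN : ∀ l : L, l ∈ N' := by
    rintro ⟨l, hl⟩
    induction hl using Subgroup.closure_induction with
    | mem x hx => exact hFN x hx
    | one => exact N'.one_mem
    | mul x y hx hy ihx ihy => exact N'.mul_mem ihx ihy
    | inv x hx ih => exact N'.inv_mem ih
  intro y
  induction y using MonoidAlgebra.induction_linear with
  | zero => exact ⟨0, map_zero _⟩
  | add a b ha hb =>
    obtain ⟨a, rfl⟩ := ha
    obtain ⟨b, rfl⟩ := hb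
    exact ⟨a + b, map_add _ a b⟩
  | single m c =>
    obtain ⟨l, rfl⟩ := hq m
    obtain ⟨x, hx⟩ := hN l
    refine ⟨c • x, ?_⟩
    show P (c • x) = _
    rw [map_smul, show P x = MonoidAlgebra.single (q l) 1 from hx, MonoidAlgebra.smul_single, smul_eq_mul, mul_one]

end Groth.Agent.MuCrit20
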