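import Groth.Agent.S5423
import Groth.Agent.Lib.MuCrit20.Mu
import Groth.Agent.Lib.MuCrit20.Lie
import Groth.Agent.Lib.UnipExt20.Basic
import Groth.Agent.Lib.FinGrp20.Basic
import Groth.Agent.Lib.HopfRedH28.Basic
import Mathlib.LinearAlgebra.TensorProduct.RightExactness

/-!
# Unipotence criterion: unipotent points and nilpotent Lie algebra
-/

set_option autoImplicit false
set_option linter.style.haveILetI false
universe u

open TensorProduct WithConv HopfRep
open scoped Groth.Agent.CoalgH23

noncomputable section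

namespace Groth.Agent.MuCrit20

variable {k : Type u} [Field k] [IsAlgClosed k]

/-- A reduced group with unipotent points is unipotent. -/
theorem isUnipotent_of_reduced (A : Type u) [CommRing A] [HopfAlgebra k A] [Algebra.FiniteType k A]
    [IsReduced A] (hP : PtsUnip k A) : IsUnipotent k A :=
  (S5423.result k A).2 fun g V _ _ _ hV => by
    haveI := hV
    exact isNilpotent_act_sub_one hP g V

variable (p : ℕ) [Fact p.Prime] [CharP k p]

theorem isUnipotent_of_exp : ∀ (N : ℕ) (A : Type u) [CommRing A] [HopfAlgebra k A] [Algebra.FiniteType k A],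
    PtsUnip k A → LieNil k A → (∀ x : A, IsNilpotent x → x ^ p ^ N = 0) → IsUnipotent k A := by
  intro N
  induction N with
  | zero =>
    intro A _ _ _ hP _ hN
    haveI : IsReduced A := ⟨fun x hx => by simpa using hN x hx⟩
    exact isUnipotent_of_reduced A hP
  | succ N ih =>
    intro A _ _ _ hP hL hN
    classical
    have hp : p.Prime := Fact.out
    haveI : ExpChar k p := ExpChar.prime hp
    haveI : Nontrivial A := Bialgebra.nontrivial k
    haveI : CharP A p := charP_of_injective_algebraMap (algebraMap k A).injective p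
    haveI : ExpChar A p := ExpChar.prime hp
    haveI : Nontrivial (A ⊗[k] A) := (Bialgebra.counitAlgHom k (A ⊗[k] A)).domain_nontrivial
    haveI : CharP (A ⊗[k] A) p := charP_of_injective_algebraMap (algebraMap k (A ⊗[k] A)).injective p
    haveI : ExpChar (A ⊗[k] A) p := ExpChar.prime hp
    haveI : PerfectRing k p := PerfectField.toPerfectRing p
    let J : Ideal A := RingHom.ker (frobenius A p)
    have hJ : ∀ x, x ∈ J ↔ x ^ p = 0 := fun x => Iff.rfl
    let q : A →ₐ[k] A ⧸ J := Ideal.Quotient.mkₐ k J
    have hq : Function.Surjective q := Ideal.Quotient.mkₐ_surjective k J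
    -- the `p`-th power kills the kernel of `q ⊗ q`
    have hker : ∀ z, Algebra.TensorProduct.map q q z = 0 → z ^ p = 0 := by
      intro z hz
      have hz' : z ∈ RingHom.ker (Algebra.TensorProduct.map q q) := hz
      rw [Algebra.TensorProduct.map_ker (f := q) (g := q) hq hq] at hz'
      refine (show _ ⊔ _ ≤ RingHom.ker (frobenius (A ⊗[k] A) p) from sup_le ?_ ?_) hz'
      · refine Ideal.map_le_iff_le_comap.2 fun x hx => ?_
        have hx' : x ^ p = 0 := (hJ x).1 (by
          rw [← Ideal.mk_ker (I := J)]; exact hx)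
        show (x ⊗ₜ[k] (1 : A)) ^ p = 0
        rw [Algebra.TensorProduct.tmul_pow, hx', TensorProduct.zero_tmul]
      · refine Ideal.map_le_iff_le_comap.2 fun x hx => ?_
        have hx' : x ^ p = 0 := (hJ x).1 (by
          rw [← Ideal.mk_ker (I := J)]; exact hx)
        show ((1 : A) ⊗ₜ[k] x) ^ p = 0
        rw [Algebra.TensorProduct.tmul_pow, hx', TensorProduct.tmul_zero]
    -- conversely
    have hker' : ∀ z : A ⊗[k] A, z ^ p = 0 → Algebra.TensorProduct.map q q z = 0 := by
      intro z hz
      let b := Module.Free.chooseBasis k (A ⧸ J)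
      choose y hy using fun i => hq (b i)
      have hli : LinearIndependent k fun i => y i ^ p := by
        rw [linearIndependent_iff']
        intro s c hc i hi
        choose d hd using fun j => surjective_frobenius k p (c j)
        have h0 : ∑ j ∈ s, d j • y j ∈ J := by
          rw [hJ, sum_pow_char p, ← hc]
          refine Finset.sum_congr rfl fun j _ => ?_
          rw [smul_pow, ← frobenius_def p (d j), hd]
        have h1 : q (∑ j ∈ s, d j • y j) = 0 := Ideal.Quotient.eq_zero_iff_mem.2 h0
        simp only [map_sum, map_smul, hy] at h1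
        have := linearIndependent_iff'.1 b.linearIndependent s d h1 i hi
        rw [← hd i, this, map_zero]
      have hli2 := hli.tmul_of_flat_left hli
      let w := Algebra.TensorProduct.map q q z
      let c := (b.tensorProduct b).repr w
      have hw : w = c.sum fun ij r => r • (b ij.1 ⊗ₜ[k] b ij.2) := by
        conv_lhs => rw [← (b.tensorProduct b).linearCombination_repr w]
        rw [Finsupp.linearCombination_apply]
        simp [c, Module.Basis.tensorProduct_apply']
      let z' : A ⊗[k] A := c.sum fun ij r => r • (y ij.1 ⊗ₜ[k] y ij.2)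
      have hz' : Algebra.TensorProduct.map q q z' = w := by
        rw [hw]
        simp only [z', Finsupp.sum, map_sum, map_smul, Algebra.TensorProduct.map_tmul, hy]
      have h1 : z' ^ p = 0 := by
        have h2 := hker (z - z') (by rw [map_sub, hz', sub_self])
        rw [sub_pow_char, hz, zero_sub, neg_eq_zero] at h2
        exact h2
      have h3 : ∑ ij ∈ c.support, (c ij) ^ p • ((y ij.1 ^ p) ⊗ₜ[k] (y ij.2 ^ p)) = 0 := by
        rw [← h1]
        simp only [z', Finsupp.sum]
        rw [sum_pow_char p]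
        refine Finset.sum_congr rfl fun ij _ => ?_
        rw [smul_pow, Algebra.TensorProduct.tmul_pow]
      show w = 0
      rw [hw]
      refine Finset.sum_eq_zero fun ij hij => ?_
      have h4 := linearIndependent_iff'.1 hli2 c.support (fun ij => (c ij) ^ p) h3 ij hij
      show c ij • _ = 0
      rw [eq_zero_of_pow_eq_zero h4, zero_smul]
    haveI : J.IsHopfIdeal k := FinGrp.isHopfIdeal_of_algHom J
      (fun x hx => eq_zero_of_pow_eq_zero (n := p) (by rw [← Bialgebra.counit_pow, (hJ x).1 hx, map_zero]))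
      (fun x hx => hker' _ (by rw [← map_pow, (hJ x).1 hx, map_zero]))
      (fun x hx => (hJ _).2 (by
        rw [show HopfAlgebra.antipode k x = HopfAlgebra.antipodeAlgHom k A x from rfl, ← map_pow, (hJ x).1 hx, map_zero]))
    let π : A →ₐc[k] A ⧸ J := Bialgebra.Quotient.mkBialgHom (R := k) J
    have hπs : Function.Surjective π := Ideal.Quotient.mk_surjective
    haveI : Algebra.FiniteType k (A ⧸ J) := Algebra.FiniteType.of_surjective q hq
    have hQ : IsUnipotent k (A ⧸ J) := by
      refine ih (A ⧸ J) (hP.of_surjective π hπs) (hL.of_surjective π hπs) fun x hx => ?_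
      obtain ⟨a, rfl⟩ := Ideal.Quotient.mk_surjective x
      obtain ⟨m, hm⟩ := hx
      rw [← map_pow, Ideal.Quotient.eq_zero_iff_mem, hJ, ← pow_mul] at hm
      rw [← map_pow, Ideal.Quotient.eq_zero_iff_mem, hJ, ← pow_mul, ← pow_succ]
      exact hN a ⟨m * p, hm⟩
    -- the image of Frobenius
    let B : Subalgebra k A :=
      { (frobenius A p).range.toSubsemiring with
        algebraMap_mem' := fun r => by
          obtain ⟨s, hs⟩ := surjective_frobenius k p r
          exact ⟨algebraMap k A s, by rw [frobenius_def, ← map_pow, ← frobenius_def, hs]⟩ }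
    have hmemB : ∀ a, a ∈ B ↔ ∃ x, x ^ p = a := fun a => Iff.rfl
    have hB : ∀ b ∈ B, CoalgebraStruct.comul (R := k) b ∈
        LinearMap.range (TensorProduct.map B.val.toLinearMap B.val.toLinearMap) := by
      intro b hb
      obtain ⟨x, rfl⟩ := (hmemB b).1 hb
      rw [Bialgebra.comul_pow]
      induction CoalgebraStruct.comul (R := k) x using TensorProduct.induction_on with
      | zero => rw [zero_pow hp.ne_zero]; exact zero_mem _
      | add u v hu hv => rw [add_pow_char]; exact add_mem hu hv
      | tmul a c =>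
        exact ⟨⟨a ^ p, (hmemB _).2 ⟨a, rfl⟩⟩ ⊗ₜ[k] ⟨c ^ p, (hmemB _).2 ⟨c, rfl⟩⟩, by
          simp [Algebra.TensorProduct.tmul_pow]⟩
    have hS : ∀ b ∈ B, HopfAlgebra.antipode k b ∈ B := by
      intro b hb
      obtain ⟨x, rfl⟩ := (hmemB b).1 hb
      exact (hmemB _).2 ⟨HopfAlgebra.antipode k x, ((HopfAlgebra.antipodeAlgHom k A).map_pow x p).symm⟩
    obtain ⟨B', _, _, e, heε, heΔ⟩ := FinGrp.exists_hopf_sub B hB hS
    let f : B' →ₐ[k] A := B.val.comp e.toAlgHom
    let ψ : B' →ₐc[k] A := BialgHom.ofAlgHom f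
      (AlgHom.ext fun b => (heε b).symm) (AlgHom.ext fun b => heΔ b)
    have hψ : Function.Injective ψ := Subtype.val_injective.comp e.injective
    let F : A → B' := fun y => e.symm ⟨y ^ p, (hmemB _).2 ⟨y, rfl⟩⟩
    have hF : ∀ y, ψ (F y) = y ^ p := fun y => by
      show ((e (e.symm ⟨y ^ p, _⟩) : B) : A) = y ^ p
      rw [e.apply_symm_apply]
    have hFsurj : ∀ b, ∃ y, F y = b := fun b => by
      obtain ⟨y, hy⟩ := (hmemB _).1 (e b).2
      exact ⟨y, hψ ((hF y).trans hy)⟩
    haveI : Algebra.FiniteType k B' := by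
      obtain ⟨G, hG⟩ := Algebra.FiniteType.out (R := k) (A := A)
      refine ⟨⟨G.image F, eq_top_iff.2 fun b hb => ?_⟩⟩
      clear hb
      obtain ⟨y, rfl⟩ := hFsurj b
      have hy : y ∈ Algebra.adjoin k (G : Set A) := hG ▸ trivial
      induction hy using Algebra.adjoin_induction with
      | mem x hx => exact Algebra.subset_adjoin (Finset.mem_coe.2 (Finset.mem_image_of_mem F hx))
      | algebraMap c =>
        rw [show F (algebraMap k A c) = algebraMap k B' (c ^ p) from hψ (by
          rw [hF, AlgHomClass.commutes, map_pow])]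
        exact Subalgebra.algebraMap_mem _ _
      | add x z _ _ hx hz =>
        rw [show F (x + z) = F x + F z from hψ (by rw [map_add, hF, hF, hF, add_pow_char])]
        exact add_mem hx hz
      | mul x z _ _ hx hz =>
        rw [show F (x * z) = F x * F z from hψ (by rw [map_mul, hF, hF, hF, mul_pow])]
        exact mul_mem hx hz
    have hC : IsUnipotent k B' := by
      open Groth.Agent.CoalgH23 in
      refine Unip23.isUnipotent_of_exhaustive fun b => ?_
      obtain ⟨y, rfl⟩ := hFsurj b
      obtain ⟨n, hn⟩ := Unip23.exists_mem_fixFil hQ (q y)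
      refine ⟨n, ?_⟩
      clear hFsurj
      revert y
      induction n with
      | zero =>
        intro y hy
        have hy0 : y ^ p = 0 := (hJ y).1 (Ideal.Quotient.eq_zero_iff_mem.1 ((Submodule.mem_bot k).1 hy))
        rw [show F y = 0 from hψ (by rw [hF, hy0, map_zero])]
        exact zero_mem _
      | succ n ihn =>
        intro y hy
        obtain ⟨z, hz⟩ := CoalgH23.mem_fixFil_succ.1 hy
        refine CoalgH23.mem_fixFil_succ.2 ?_
        let f₂ : B' ⊗[k] B' →ₐ[k] A ⊗[k] A := Algebra.TensorProduct.map f f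
        have hf₂ : Function.Injective f₂ :=
          TensorProduct.map_injective_of_flat_flat f.toLinearMap f.toLinearMap hψ hψ
        have key : ∀ z : (CoalgH23.fixFil k (A ⧸ J) (A ⧸ J) n) ⊗[k] (A ⧸ J), ∃ (z₀ : A ⊗[k] A)
            (w : (CoalgH23.fixFil k B' B' n) ⊗[k] B'),
            Algebra.TensorProduct.map q q z₀ = (CoalgH23.fixFil k (A ⧸ J) (A ⧸ J) n).subtype.rTensor (A ⧸ J) z ∧
            f₂ ((CoalgH23.fixFil k B' B' n).subtype.rTensor B' w) = z₀ ^ p := by
          intro z
          induction z with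
          | zero => exact ⟨0, 0, by simp, by simp [hp.ne_zero]⟩
          | add u v hu hv =>
            obtain ⟨u₀, wu, hu1, hu2⟩ := hu
            obtain ⟨v₀, wv, hv1, hv2⟩ := hv
            exact ⟨u₀ + v₀, wu + wv, by rw [map_add, map_add, hu1, hv1],
              by rw [map_add, map_add, hu2, hv2, add_pow_char]⟩
          | tmul u v =>
            obtain ⟨y₁, hy₁⟩ := hq (u : A ⧸ J)
            obtain ⟨y₂, hy₂⟩ := hq v
            refine ⟨y₁ ⊗ₜ[k] y₂, ⟨F y₁, ihn y₁ (hy₁ ▸ u.2)⟩ ⊗ₜ[k] F y₂, ?_, ?_⟩
            · rw [Algebra.TensorProduct.map_tmul, hy₁, hy₂, LinearMap.rTensor_tmul]; rfl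
            · rw [LinearMap.rTensor_tmul, Submodule.subtype_apply, Algebra.TensorProduct.map_tmul,
                Algebra.TensorProduct.tmul_pow]
              exact congrArg₂ (fun a b : A => a ⊗ₜ[k] b) (hF y₁) (hF y₂)
        obtain ⟨z₀, w, h1, h2⟩ := key z
        refine ⟨w, hf₂ ?_⟩
        rw [h2]
        show _ = f₂ (CoalgebraStruct.comul (R := k) (F y) - F y ⊗ₜ[k] (1 : B'))
        have hqy : Algebra.TensorProduct.map q q (CoalgebraStruct.comul (R := k) y - y ⊗ₜ[k] (1 : A)) =
            CoalgebraStruct.comul (R := k) (q y) - q y ⊗ₜ[k] (1 : A ⧸ J) := by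
          rw [map_sub, Algebra.TensorProduct.map_tmul, map_one]
          congr 1
        have h5 := hker (z₀ - (CoalgebraStruct.comul (R := k) y - y ⊗ₜ[k] (1 : A)))
          (by rw [map_sub, hqy, h1, hz]; exact sub_self _)
        rw [sub_pow_char, sub_eq_zero] at h5
        rw [h5, sub_pow_char, map_sub, ← Bialgebra.comul_pow, Algebra.TensorProduct.tmul_pow, one_pow,
          Algebra.TensorProduct.map_tmul, map_one, show f (F y) = y ^ p from hF y]
        congr 1
        rw [show f₂ (CoalgebraStruct.comul (R := k) (F y)) = CoalgebraStruct.comul (R := k) (e (F y) : A) from heΔ _,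
          show ((e (F y) : B) : A) = y ^ p from hF y]
    -- the kernel of Frobenius
    let K : Ideal A := Ideal.map (ψ : B' →+* A) (RingHom.ker (Bialgebra.counitAlgHom k B'))
    have hK : K = Ideal.span {a : A | a ∈ B ∧ CoalgebraStruct.counit (R := k) a = 0} := by
      refine congrArg Ideal.span (Set.ext fun a => ⟨?_, ?_⟩)
      · rintro ⟨b, hb, rfl⟩
        exact ⟨(e b).2, (heε b).symm.trans hb⟩
      · rintro ⟨ha, ha0⟩
        refine ⟨e.symm ⟨a, ha⟩, ?_, ?_⟩
        · show CoalgebraStruct.counit (R := k) (e.symm ⟨a, ha⟩) = 0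
          rw [heε, e.apply_symm_apply]; exact ha0
        · show ((e (e.symm ⟨a, ha⟩) : B) : A) = a
          rw [e.apply_symm_apply]
    haveI : K.IsHopfIdeal k := hK ▸ FinGrp.isHopfIdeal_span_aug B hB hS
    let πK : A →ₐc[k] A ⧸ K := Bialgebra.Quotient.mkBialgHom (R := k) K
    haveI : Algebra.FiniteType k (A ⧸ K) :=
      Algebra.FiniteType.of_surjective (Ideal.Quotient.mkₐ k K) (Ideal.Quotient.mkₐ_surjective k K)
    refine UnipExt20.isUnipotent_of_extension ψ K hψ rfl hC
      (isUnipotent_of_heightOne p (fun a ha => ?_) (hL.of_surjective πK Ideal.Quotient.mk_surjective))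
    obtain ⟨x, rfl⟩ := Ideal.Quotient.mk_surjective a
    have ha' : CoalgebraStruct.counit (R := k) x = 0 := ha
    rw [← map_pow, Ideal.Quotient.eq_zero_iff_mem, hK]
    refine Ideal.subset_span ⟨(hmemB _).2 ⟨x, rfl⟩, ?_⟩
    rw [Bialgebra.counit_pow, ha', zero_pow hp.ne_zero]

/-- Unipotent points and nilpotent Lie algebra imply unipotent. -/
theorem isUnipotent_of_ptsUnip_lieNil {k : Type u} [Field k] [IsAlgClosed k] (p : ℕ) [Fact p.Prime] [CharP k p] (A : Type u) [CommRing A] [HopfAlgebra k A] [Algebra.FiniteType k A]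
    (hP : PtsUnip k A) (hL : LieNil k A) : IsUnipotent k A := by
  haveI : IsNoetherianRing A := Algebra.FiniteType.isNoetherianRing k A
  obtain ⟨M, hM⟩ := IsNoetherianRing.isNilpotent_nilradical A
  refine isUnipotent_of_exp p M A hP hL fun x hx => ?_
  have h := Ideal.pow_mem_pow (mem_nilradical.2 hx) M
  rw [hM] at h
  obtain ⟨d, hd⟩ := Nat.exists_eq_add_of_le (Nat.lt_pow_self (Fact.out : p.Prime).one_lt : M < p ^ M).le
  rw [hd, pow_add, (Submodule.mem_bot A).1 h, zero_mul]

/-- A non-unipotent group contains some `μ_r` with `r` prime. -/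
theorem exists_mu_of_not_isUnipotent {k : Type u} [Field k] [IsAlgClosed k] (A : Type u) [CommRing A]
    [HopfAlgebra k A] [Algebra.FiniteType k A] (h : ¬ IsUnipotent k A) :
    ∃ (r : ℕ) (_ : r.Prime) (φ : A →ₐc[k] MonoidAlgebra k (Multiplicative (ZMod r))), Function.Surjective φ := by
  by_contra hno
  push Not at hno
  have hP : PtsUnip k A := by
    by_contra hP
    obtain ⟨r, hr, φ, hφ⟩ := exists_mu_of_not_ptsUnip k A hP
    exact hno r hr φ hφ
  rcases CharP.exists' k with h0 | ⟨p, hp, hcp⟩
  · haveI := HopfRedH28.isReduced_of_charZero k A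
    exact h (isUnipotent_of_reduced A hP)
  · exact h (isUnipotent_of_ptsUnip_lieNil p A hP (lieNil_of_no_mu p fun ⟨φ, hφ⟩ => hno p hp.out φ hφ))

end Groth.Agent.MuCrit20
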