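import Groth.Agent.Lib.Unip23.Points
import Groth.Agent.Lib.CoalgH23.Filtration
import Mathlib.LinearAlgebra.Eigenspace.Triangularizable
import Mathlib.RingTheory.Bialgebra.MonoidAlgebra
import Mathlib.Algebra.DirectSum.Module
import Mathlib.RingTheory.HopfAlgebra.Convolution
import Mathlib.RingTheory.SimpleModule.Basic
import Mathlib.Data.ZMod.QuotientRing

/-!
# A non-unipotent point gives a subgroup `μ_ℓ`
-/

set_option autoImplicit false
universe u

open TensorProduct HopfRep WithConv
open scoped Groth.Agent.CoalgH23

noncomputable section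

namespace Groth.Agent.MuCrit20

open Groth.Agent.CoalgH23

variable (k : Type u) [Field k] (A : Type u) [CommRing A] [HopfAlgebra k A]

/-- The action of a point, as an endomorphism. -/
abbrev T' (V : Type u) [AddCommGroup V] [Module k V] [Comod k A V] (g : A →ₐ[k] k) : Module.End k V :=
  Comod.act k A V g

/-- Every point acts locally unipotently on the coordinate ring. -/
def PtsUnip : Prop :=
  ∀ (g : A →ₐ[k] k) (a : A), ∃ n : ℕ, ((T' k A A g - 1) ^ n) a = 0

variable {k A}

/-- Translation by a point. -/
def actAlg (g : A →ₐ[k] k) : A →ₐ[k] A :=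
  ((Algebra.TensorProduct.rid k k A).toAlgHom.comp (Algebra.TensorProduct.map (AlgHom.id k A) g)).comp
    (Bialgebra.comulAlgHom k A)

theorem actAlg_apply (g : A →ₐ[k] k) (a : A) : actAlg g a = Comod.act k A A g a := by
  show Algebra.TensorProduct.rid k k A (Algebra.TensorProduct.map (AlgHom.id k A) g
    (CoalgebraStruct.comul (R := k) a)) =
    TensorProduct.rid k A (g.toLinearMap.lTensor A (CoalgebraStruct.comul (R := k) a))
  induction CoalgebraStruct.comul (R := k) a with
  | zero => simp
  | tmul x y => simp
  | add x y hx hy => simp only [map_add, hx, hy]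

theorem act_mul (g : A →ₐ[k] k) (a b : A) :
    Comod.act k A A g (a * b) = Comod.act k A A g a * Comod.act k A A g b := by
  simp only [← actAlg_apply, map_mul]

theorem act_one' (g : A →ₐ[k] k) : Comod.act k A A g 1 = 1 := by rw [← actAlg_apply, map_one]

theorem coact_act {V : Type u} [AddCommGroup V] [Module k V] [Comod k A V] (g : A →ₐ[k] k) (v : V) :
    Comod.coact (k := k) (A := A) (Comod.act k A V g v) =
      (Comod.act k A A g).lTensor V (Comod.coact (k := k) (A := A) v) := by
  let F : V ⊗[k] (A ⊗[k] A) →ₗ[k] V ⊗[k] A :=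
    ((TensorProduct.rid k A).toLinearMap ∘ₗ g.toLinearMap.lTensor A).lTensor V
  have hR : (Comod.act k A A g).lTensor V (Comod.coact (k := k) (A := A) v) =
      F ((CoalgebraStruct.comul (R := k) (A := A)).lTensor V (Comod.coact (k := k) (A := A) v)) := by
    rw [← LinearMap.comp_apply F, ← LinearMap.lTensor_comp]
    rfl
  have hc := LinearMap.congr_fun (Comod.coassoc (k := k) (A := A) (V := V)) v
  simp only [LinearMap.comp_apply, LinearEquiv.coe_coe] at hc
  rw [hR, ← hc]
  show Comod.coact (k := k) (A := A) (TensorProduct.rid k V (g.toLinearMap.lTensor V (Comod.coact (k := k) (A := A) v))) = _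
  generalize Comod.coact (k := k) (A := A) v = z
  induction z with
  | zero => simp
  | add p q hp hq => simp only [map_add, hp, hq]
  | tmul w a =>
    simp only [LinearMap.lTensor_tmul, TensorProduct.rid_tmul, map_smul, LinearMap.rTensor_tmul]
    induction Comod.coact (k := k) (A := A) w with
    | zero => simp
    | add p q hp hq => simp only [map_add, smul_add, TensorProduct.add_tmul, hp, hq]
    | tmul p q => simp [F, TensorProduct.tmul_smul]

/-- Locally unipotent on the coordinate ring implies unipotent in every representation. -/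
theorem isNilpotent_act_sub_one (h : PtsUnip k A) (g : A →ₐ[k] k) (V : Type u) [AddCommGroup V] [Module k V]
    [Comod k A V] [Module.Finite k V] : IsNilpotent (T' k A V g - 1) := by
  classical
  have hi : ∀ (n : ℕ) (v : V), Comod.coact (k := k) (A := A) (((T' k A V g - 1) ^ n) v) =
      ((T' k A A g - 1) ^ n).lTensor V (Comod.coact (k := k) (A := A) v) := by
    intro n
    induction n with
    | zero => intro v; simp [Module.End.one_eq_id]
    | succ n ih =>
      intro v
      rw [pow_succ', pow_succ', Module.End.mul_apply, Module.End.mul_eq_comp, LinearMap.lTensor_comp,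
        LinearMap.comp_apply, ← ih, LinearMap.sub_apply, Module.End.one_apply, map_sub, coact_act,
        LinearMap.lTensor_sub, LinearMap.sub_apply]
      show _ = _ - (LinearMap.id : A →ₗ[k] A).lTensor V _
      rw [LinearMap.lTensor_id, LinearMap.id_apply]
  have hloc : ∀ v : V, ∃ n : ℕ, ((T' k A V g - 1) ^ n) v = 0 := by
    intro v
    obtain ⟨s, hs⟩ := TensorProduct.exists_finset (Comod.coact (k := k) (A := A) v)
    choose f hf using fun i : V × A => h g i.2
    refine ⟨s.sup f, ?_⟩
    have h0 : Comod.coact (k := k) (A := A) (((T' k A V g - 1) ^ (s.sup f)) v) = 0 := by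
      rw [hi, hs, map_sum]
      refine Finset.sum_eq_zero fun i hi' => ?_
      obtain ⟨d, hd⟩ := Nat.exists_eq_add_of_le (Finset.le_sup (f := f) hi')
      rw [LinearMap.lTensor_tmul, hd, add_comm, pow_add, Module.End.mul_apply, hf, map_zero,
        TensorProduct.tmul_zero]
    have := congrArg (slice (CoalgebraStruct.counit (R := k) (A := A))) h0
    rwa [map_zero, show ∀ w : V, slice (CoalgebraStruct.counit (R := k) (A := A)) (Comod.coact (k := k) (A := A) w) = w
      from fun w => LinearMap.congr_fun (actL_counit (k := k) (C := A) (V := V)) w] at this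
  let b := Module.Free.chooseBasis k V
  choose f hf using hloc
  refine ⟨Finset.univ.sup fun i => f (b i), b.ext fun i => ?_⟩
  obtain ⟨d, hd⟩ := Nat.exists_eq_add_of_le (Finset.le_sup (f := fun i => f (b i)) (Finset.mem_univ i))
  rw [hd, add_comm, pow_add, Module.End.mul_apply, hf, map_zero, LinearMap.zero_apply]

theorem PtsUnip.of_surjective (h : PtsUnip k A) {B : Type u} [CommRing B] [HopfAlgebra k B]
    (π : A →ₐc[k] B) (hπ : Function.Surjective π) : PtsUnip k B := by
  intro g b
  obtain ⟨a, rfl⟩ := hπ b
  let f : A →ₗ[k] B := (π : A →ₐ[k] B).toLinearMap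
  have h1 : ∀ x : A, Comod.act k B B g (π x) = π (Comod.act k A A (g.comp (π : A →ₐ[k] B)) x) := by
    intro x
    show TensorProduct.rid k B (g.toLinearMap.lTensor B (CoalgebraStruct.comul (R := k) (π x))) =
      π (TensorProduct.rid k A ((g.comp (π : A →ₐ[k] B)).toLinearMap.lTensor A (CoalgebraStruct.comul (R := k) x)))
    rw [← CoalgHomClass.map_comp_comul_apply π]
    induction CoalgebraStruct.comul (R := k) x with
    | zero => simp
    | add p q hp hq => simp only [map_add, hp, hq]
    | tmul p q => simp
  obtain ⟨n, hn⟩ := h (g.comp (π : A →ₐ[k] B)) a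
  refine ⟨n, ?_⟩
  have h2 : ∀ (m : ℕ) (x : A), ((T' k B B g - 1) ^ m) (π x) =
      π (((T' k A A (g.comp (π : A →ₐ[k] B)) - 1) ^ m) x) := by
    intro m
    induction m with
    | zero => intro x; rfl
    | succ m ih =>
      intro x
      rw [pow_succ', pow_succ', Module.End.mul_apply, Module.End.mul_apply, ih]
      simp only [LinearMap.sub_apply, Module.End.one_apply, h1, map_sub]
  rw [h2, hn, map_zero]

/-- The weight spaces of a point. -/
def weight (g : A →ₐ[k] k) (l : kˣ) : Submodule k A :=
  Module.End.maxGenEigenspace (Comod.act k A A g) (l : k)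

theorem mul_mem_weight (g : A →ₐ[k] k) {l m : kˣ} {a b : A} (ha : a ∈ weight g l) (hb : b ∈ weight g m) :
    a * b ∈ weight g (l * m) := by
  set T : Module.End k A := Comod.act k A A g
  have key : ∀ (N i j : ℕ) (x y : A), i + j ≤ N → ((T - (l : k) • 1) ^ i) x = 0 →
      ((T - (m : k) • 1) ^ j) y = 0 → ((T - ((l * m : kˣ) : k) • 1) ^ N) (x * y) = 0 := by
    intro N
    induction N with
    | zero =>
      intro i j x y hij hx hy
      obtain rfl : i = 0 := by omega
      rw [show x = 0 from hx, zero_mul, map_zero]
    | succ N ih =>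
      intro i j x y hij hx hy
      rcases i with _ | i
      · rw [show x = 0 from hx, zero_mul, map_zero]
      rcases j with _ | j
      · rw [show y = 0 from hy, mul_zero, map_zero]
      have hxy : (T - ((l * m : kˣ) : k) • 1) (x * y) =
          ((T - (l : k) • 1) x) * T y + (l : k) • (x * ((T - (m : k) • 1) y)) := by
        simp only [LinearMap.sub_apply, LinearMap.smul_apply, Module.End.one_apply]
        rw [show T (x * y) = T x * T y from act_mul g x y, Units.val_mul]
        simp only [Algebra.smul_def, map_mul]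
        ring
      rw [pow_succ, Module.End.mul_apply, hxy, map_add, map_smul]
      have hx' : ((T - (l : k) • 1) ^ i) ((T - (l : k) • 1) x) = 0 := by
        rw [← Module.End.mul_apply, ← pow_succ, hx]
      have hy' : ((T - (m : k) • 1) ^ j) ((T - (m : k) • 1) y) = 0 := by
        rw [← Module.End.mul_apply, ← pow_succ, hy]
      have hy'' : ((T - (m : k) • 1) ^ (j + 1)) (T y) = 0 := by
        rw [← Module.End.mul_apply,
          show ((T - (m : k) • 1) ^ (j + 1)) * T = T * (T - (m : k) • 1) ^ (j + 1) from
            (((Commute.refl T).sub_left ((Commute.one_left T).smul_left _)).pow_left _),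
          Module.End.mul_apply, hy, map_zero]
      rw [ih i (j + 1) _ _ (by omega) hx' hy'', ih (i + 1) j _ _ (by omega) hx hy', smul_zero, add_zero]
  obtain ⟨i, hi⟩ := (Module.End.mem_maxGenEigenspace _ _ _).1 ha
  obtain ⟨j, hj⟩ := (Module.End.mem_maxGenEigenspace _ _ _).1 hb
  exact (Module.End.mem_maxGenEigenspace _ _ _).2 ⟨i + j, key _ i j a b le_rfl hi hj⟩

theorem one_mem_weight (g : A →ₐ[k] k) : (1 : A) ∈ weight g 1 :=
  (Module.End.mem_maxGenEigenspace _ _ _).2 ⟨1, by simp [act_one']⟩

theorem iSup_weight [IsAlgClosed k] (g : A →ₐ[k] k) : ⨆ l, weight g l = ⊤ := by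
  refine eq_top_iff.2 fun a _ => ?_
  set T : Module.End k A := Comod.act k A A g
  let W : Submodule k A := (Submodule.span (WithConv (A →ₗ[k] k)) {a}).restrictScalars k
  haveI : Module.Finite k W := finite_span_singleton a
  have hW : ∀ x ∈ W, T x ∈ W := fun x hx => Submodule.smul_mem _ (toConv g.toLinearMap) hx
  have hT : ∀ x, T x = 0 → x = 0 := by
    intro x hx
    have h : Unip23.lin ((toConv g)⁻¹ * toConv g) • x = x := by
      rw [inv_mul_cancel, Unip23.lin_one, one_smul]
    rw [← h, Unip23.lin_mul, mul_smul,
      show Unip23.lin (toConv g) • x = T x from rfl, hx, smul_zero]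
  have ha : (⟨a, Submodule.subset_span rfl⟩ : W) ∈ ⨆ μ : k, Module.End.maxGenEigenspace (T.restrict hW) μ := by
    rw [Module.End.iSup_maxGenEigenspace_eq_top]; trivial
  have h2 := Submodule.mem_map_of_mem (f := W.subtype) ha
  rw [Submodule.map_iSup] at h2
  refine (iSup_le fun μ => ?_ : _ ≤ ⨆ l, weight g l) h2
  rintro _ ⟨w, hw, rfl⟩
  obtain ⟨n, hn⟩ := (Module.End.mem_maxGenEigenspace _ _ _).1 hw
  have hn' : ((T - μ • 1) ^ n) (w : A) = 0 := by
    have : ∀ (m : ℕ) (y : W), (((T.restrict hW - μ • 1) ^ m) y : A) = ((T - μ • 1) ^ m) (y : A) := by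
      intro m
      induction m with
      | zero => intro y; rfl
      | succ m ih => intro y; rw [pow_succ, pow_succ, Module.End.mul_apply, Module.End.mul_apply, ih]; rfl
    rw [← this, hn]; rfl
  rcases eq_or_ne μ 0 with rfl | hμ
  · have : (w : A) = 0 := by
      clear hn
      induction n with
      | zero => exact hn'
      | succ n ih =>
        refine ih ?_
        rw [pow_succ', Module.End.mul_apply, zero_smul, sub_zero] at hn'
        rw [zero_smul, sub_zero]
        exact hT _ hn'
    rw [Submodule.subtype_apply, this]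
    exact zero_mem _
  · exact Submodule.mem_iSup_of_mem (Units.mk0 μ hμ) ((Module.End.mem_maxGenEigenspace _ _ _).2 ⟨n, hn'⟩)

theorem comul_mem_weight (g : A →ₐ[k] k) {l : kˣ} {a : A} (ha : a ∈ weight g l) :
    CoalgebraStruct.comul (R := k) a ∈ LinearMap.range ((weight g l).subtype.lTensor A) := by
  set T : Module.End k A := Comod.act k A A g
  obtain ⟨n, hn⟩ := (Module.End.mem_maxGenEigenspace _ _ _).1 ha
  have hcom : ∀ (m : ℕ) (x : A), CoalgebraStruct.comul (R := k) (((T - (l : k) • 1) ^ m) x) =
      ((T - (l : k) • 1) ^ m).lTensor A (CoalgebraStruct.comul (R := k) x) := by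
    intro m
    induction m with
    | zero => intro x; simp [Module.End.one_eq_id]
    | succ m ih =>
      intro x
      rw [pow_succ', Module.End.mul_apply, Module.End.mul_eq_comp, LinearMap.lTensor_comp,
        LinearMap.comp_apply, ← ih, LinearMap.sub_apply, LinearMap.smul_apply, Module.End.one_apply,
        map_sub, map_smul, LinearMap.lTensor_sub, LinearMap.sub_apply, LinearMap.lTensor_smul,
        LinearMap.smul_apply]
      congr 1
      · exact coact_act (V := A) g _
      · show _ = _ • (LinearMap.id : A →ₗ[k] A).lTensor A _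
        rw [LinearMap.lTensor_id, LinearMap.id_apply]
  have hz : CoalgebraStruct.comul (R := k) a ∈
      LinearMap.ker (((T - (l : k) • 1) ^ n).lTensor A) := by
    rw [LinearMap.mem_ker, ← hcom, hn, map_zero]
  rw [(Module.Flat.lTensor_exact A (LinearMap.exact_subtype_ker_map ((T - (l : k) • 1) ^ n))).linearMap_ker_eq] at hz
  obtain ⟨z, hz⟩ := hz
  let i : LinearMap.ker ((T - (l : k) • 1) ^ n) →ₗ[k] weight g l := Submodule.inclusion fun x hx =>
    (Module.End.mem_maxGenEigenspace _ _ _).2 ⟨n, hx⟩
  refine ⟨i.lTensor A z, ?_⟩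
  rw [← LinearMap.comp_apply, ← LinearMap.lTensor_comp]
  exact hz

end Groth.Agent.MuCrit20
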