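import Groth.Agent.Lib.MuCrit20.Der
import Groth.Agent.Lib.SigmaFix.Basic
import Groth.Agent.Lib.CoalgH23.Coef
import Mathlib.RingTheory.Bialgebra.MonoidAlgebra
import Mathlib.RingTheory.Bialgebra.Hom
import Mathlib.Algebra.Polynomial.Roots
import Mathlib.Algebra.Polynomial.BigOperators
import Mathlib.FieldTheory.Finite.Basic

/-!
# A toral element gives a subgroup `μ_p`
-/

set_option autoImplicit false
set_option linter.style.haveILetI false
universe u

open TensorProduct WithConv Polynomial

noncomputable section

namespace Groth.Agent.MuCrit20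

variable {k : Type u} [Field k] {A : Type u} [CommRing A] [HopfAlgebra k A]
variable (p : ℕ) [Fact p.Prime] [CharP k p]

local notation "𝔉" => WithConv (A →ₗ[k] k)
variable (k) in
/-- The inclusion of the prime field. -/
def primeHom : ZMod p →+* k := ZMod.castHom (dvd_refl p) k

local notation "ι" => primeHom k p

/-- The idempotent polynomials of `X^p - X`. -/
def idemPoly (j : ZMod p) : k[X] := 1 - (X - C (ι j)) ^ (p - 1)

theorem eval_idemPoly (i j : ZMod p) : (idemPoly p j : k[X]).eval (ι i) = if i = j then 1 else 0 := by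
  have hp : 0 < p - 1 := Nat.sub_pos_of_lt (Fact.out : p.Prime).one_lt
  simp only [idemPoly, eval_sub, eval_one, eval_pow, eval_X, eval_C, ← map_sub, ← map_pow]
  split_ifs with h
  · subst h
    rw [sub_self, zero_pow hp.ne', map_zero, sub_zero]
  · rw [ZMod.pow_card_sub_one_eq_one (sub_ne_zero.2 h), map_one, sub_self]

theorem sum_idemPoly : ∑ j : ZMod p, (idemPoly p j : k[X]) = 1 := by
  refine eq_of_natDegree_lt_card_of_eval_eq _ _ (f := ι) (primeHom k p).injective (fun i => ?_) ?_
  · simp [eval_finset_sum, eval_idemPoly]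
  · rw [natDegree_one, max_eq_left (Nat.zero_le _), ZMod.card]
    refine lt_of_le_of_lt (natDegree_sum_le_of_forall_le _ _ fun j _ => ?_)
      (Nat.sub_lt (Fact.out : p.Prime).pos one_pos)
    refine (natDegree_sub_le _ _).trans (max_le (by simp) ?_)
    exact natDegree_pow_le.trans (by simp)

theorem aeval_mul_of_mul_eq {S : Type*} [Ring S] [Algebra k S] {T Z : S} {c : k} (h : T * Z = c • Z) (q : k[X]) :
    aeval T q * Z = q.eval c • Z := by
  induction q using Polynomial.induction_on' with
  | add a b ha hb => rw [map_add, add_mul, ha, hb, eval_add, add_smul]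
  | monomial n r =>
    rw [aeval_monomial, eval_monomial, ← Algebra.smul_def, smul_mul_assoc, ← smul_smul]
    congr 1
    induction n with
    | zero => simp
    | succ n ih => rw [pow_succ, mul_assoc, h, mul_smul_comm, ih, smul_smul, pow_succ']

/-- A toral element gives a surjection onto `k[ℤ/p]`. -/
theorem exists_mu_of_toral {D : 𝔉} (hD : D ∈ der k A) (hD0 : D ≠ 0) (hDp : D ^ p = D) :
    ∃ φ : A →ₐc[k] MonoidAlgebra k (Multiplicative (ZMod p)), Function.Surjective φ := by
  classical
  haveI : CharP 𝔉 p := charP_of_injective_algebraMap (algebraMap k 𝔉).injective p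
  haveI : ExpChar 𝔉 p := ExpChar.prime Fact.out
  have hp1 : p - 1 + 1 = p := Nat.sub_add_cancel (Fact.out : p.Prime).pos
  let E : ZMod p → 𝔉 := fun j => aeval D (idemPoly p j : k[X])
  have hDE : ∀ j, D * E j = ι j • E j := by
    intro j
    have hc : (ι j) ^ p = ι j := by rw [← map_pow, ZMod.pow_card]
    have h : (D - algebraMap k 𝔉 (ι j)) * E j = 0 := by
      simp only [E, idemPoly, map_sub, map_one, map_pow, aeval_X, aeval_C]
      rw [mul_sub, mul_one, ← pow_succ', hp1,
        sub_pow_expChar_of_commute p (Algebra.commute_algebraMap_right (ι j) D), hDp, ← map_pow, hc, sub_self]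
    rwa [sub_mul, sub_eq_zero, ← Algebra.smul_def] at h
  have hEE : ∀ i j, E i * E j = if i = j then E j else 0 := by
    intro i j
    show aeval D (idemPoly p i : k[X]) * E j = _
    rw [aeval_mul_of_mul_eq (hDE j), eval_idemPoly]
    rcases eq_or_ne i j with rfl | h
    · simp
    · simp [h, h.symm]
  have hsum : ∑ j, E j = 1 := by simp only [E, ← map_sum, sum_idemPoly, map_one]
  have hsumD : D = ∑ j, ι j • E j := by
    simp only [← hDE, ← Finset.mul_sum, hsum, mul_one]
  -- splitting on products
  have hsplit : ∀ (n : ZMod p) (a b : A),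
      (E n).ofConv (a * b) = ∑ i, ∑ l, if i + l = n then (E i).ofConv a * (E l).ofConv b else 0 := by
    intro n a b
    have h1 : onMul (E n) = ∑ i, ∑ l, if i + l = n then inL (E i) * inR (E l) else 0 := by
      have hXY : onMul D = inL D + inR D := hD
      have h2 : ∀ i l, onMul (E n) * (inL (E i) * inR (E l)) =
          if i + l = n then inL (E i) * inR (E l) else 0 := by
        intro i l
        have hZ : onMul D * (inL (E i) * inR (E l)) = ι (i + l) • (inL (E i) * inR (E l)) := by
          rw [hXY, add_mul, map_add, add_smul, ← mul_assoc, ← map_mul, hDE, map_smul, smul_mul_assoc,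
            ← mul_assoc, (commute_inL_inR (E i) D).symm.eq, mul_assoc, ← map_mul, hDE, map_smul, mul_smul_comm]
        show onMul (aeval D (idemPoly p n : k[X])) * _ = _
        rw [← aeval_algHom_apply, aeval_mul_of_mul_eq hZ, eval_idemPoly]
        split_ifs <;> simp
      calc onMul (E n) = onMul (E n) * (inL (∑ i, E i) * inR (∑ l, E l)) := by
            rw [hsum, map_one, map_one, one_mul, mul_one]
        _ = ∑ i, ∑ l, onMul (E n) * (inL (E i) * inR (E l)) := by
            simp only [map_sum, Finset.mul_sum, Finset.sum_mul]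
            exact Finset.sum_comm
        _ = _ := by simp only [h2]
    have h3 := congrArg (fun x : WithConv (A ⊗[k] A →ₗ[k] k) => x.ofConv (a ⊗ₜ[k] b)) h1
    simp only [onMul_apply, WithConv.ofConv_sum, LinearMap.coe_sum, Finset.sum_apply] at h3
    rw [h3]
    refine Finset.sum_congr rfl fun i _ => Finset.sum_congr rfl fun l _ => ?_
    split_ifs
    · rw [inL_mul_inR, pair_apply]
    · simp
  have hone : ∀ j, (E j).ofConv 1 = if j = 0 then 1 else 0 := by
    intro j
    let ev : 𝔉 →ₐ[k] k := AlgHom.ofLinearMap
      { toFun := fun f => f.ofConv 1, map_add' := fun _ _ => rfl, map_smul' := fun _ _ => rfl }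
      (by simp [LinearMap.convOne_apply]) (fun f g => by
        show (f * g).ofConv 1 = f.ofConv 1 * g.ofConv 1
        rw [LinearMap.convMul_apply, Bialgebra.comul_one, Algebra.TensorProduct.one_def]
        simp)
    show ev (aeval D (idemPoly p j : k[X])) = _
    rw [← aeval_algHom_apply, show ev D = D.ofConv 1 from rfl, der_apply_one hD, coe_aeval_eq_eval,
      show (0 : k) = ι 0 from (map_zero ι).symm, eval_idemPoly]
    simp [eq_comm]
  let t : ZMod p → (MonoidAlgebra k (Multiplicative (ZMod p))) := fun j => MonoidAlgebra.single (Multiplicative.ofAdd j) 1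
  have ht : ∀ i l, t i * t l = t (i + l) := fun i l => by simp [t, ofAdd_add]
  have hct : ∀ j, CoalgebraStruct.counit (R := k) (t j) = 1 := fun j => by simp [t, MonoidAlgebra.counit_single]
  let P : A →ₗ[k] (MonoidAlgebra k (Multiplicative (ZMod p))) := ∑ j, (E j).ofConv.smulRight (t j)
  have hP : ∀ a, P a = ∑ j, (E j).ofConv a • t j := fun a => by simp [P]
  have hPmul : ∀ a b, P (a * b) = P a * P b := by
    intro a b
    simp only [hP, hsplit, Finset.sum_smul, Finset.sum_mul_sum]
    rw [Finset.sum_comm]
    refine Finset.sum_congr rfl fun i _ => ?_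
    rw [Finset.sum_comm]
    refine Finset.sum_congr rfl fun l _ => ?_
    simp only [ite_smul, zero_smul, Finset.sum_ite_eq, Finset.mem_univ, if_true, smul_mul_smul_comm, ht]
  have hP1 : P 1 = 1 := by
    rw [hP, Finset.sum_eq_single (0 : ZMod p)]
    · simp [hone, t, MonoidAlgebra.one_def]
    · intro j _ hj; simp [hone, hj]
    · simp
  let Φ : A →ₐ[k] (MonoidAlgebra k (Multiplicative (ZMod p))) := AlgHom.ofLinearMap P hP1 hPmul
  have hε : (Bialgebra.counitAlgHom k (MonoidAlgebra k (Multiplicative (ZMod p)))).comp Φ = Bialgebra.counitAlgHom k A := by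
    refine AlgHom.ext fun a => ?_
    show CoalgebraStruct.counit (R := k) (P a) = CoalgebraStruct.counit (R := k) a
    rw [hP, map_sum]
    have := congrArg (fun x : 𝔉 => x.ofConv a) hsum
    simp only [WithConv.ofConv_sum, LinearMap.coe_sum, Finset.sum_apply, LinearMap.convOne_apply,
      Algebra.algebraMap_self, RingHom.id_apply] at this
    simp only [map_smul, hct, smul_eq_mul, mul_one]
    simpa [WithConv.ofConv_sum] using this
  let φ : A →ₐc[k] (MonoidAlgebra k (Multiplicative (ZMod p))) := BialgHom.ofAlgHom Φ hε (by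
    refine AlgHom.ext fun a => ?_
    show TensorProduct.map P P (CoalgebraStruct.comul (R := k) a) = CoalgebraStruct.comul (R := k) (P a)
    have hcomul : ∀ j, CoalgebraStruct.comul (R := k) (t j) = t j ⊗ₜ[k] t j := fun j => by simp [t]
    have hmap : TensorProduct.map P P (CoalgebraStruct.comul (R := k) a) =
        ∑ i, ∑ l, (E i * E l).ofConv a • (t i ⊗ₜ[k] t l) := by
      simp only [LinearMap.convMul_apply]
      induction CoalgebraStruct.comul (R := k) a with
      | zero => simp
      | add x y hx hy => simp only [map_add, hx, hy, add_smul, Finset.sum_add_distrib]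
      | tmul x y =>
        rw [TensorProduct.map_tmul, hP, hP, TensorProduct.sum_tmul]
        refine Finset.sum_congr rfl fun i _ => ?_
        rw [TensorProduct.tmul_sum]
        refine Finset.sum_congr rfl fun l _ => ?_
        rw [TensorProduct.smul_tmul_smul]
        simp
    rw [hmap, hP, map_sum]
    refine Finset.sum_congr rfl fun i _ => ?_
    rw [Finset.sum_eq_single i]
    · rw [hEE, if_pos rfl, map_smul, hcomul]
    · intro l _ hl; rw [hEE, if_neg (Ne.symm hl)]; simp
    · simp)
  refine ⟨φ, ?_⟩
  obtain ⟨j, hj0, hjE⟩ : ∃ j, j ≠ 0 ∧ E j ≠ 0 := by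
    by_contra h
    push Not at h
    refine hD0 (hsumD.trans (Finset.sum_eq_zero fun j _ => ?_))
    rcases eq_or_ne j 0 with rfl | hj
    · simp
    · rw [h j hj, smul_zero]
  obtain ⟨a, ha⟩ : ∃ a, (E j).ofConv a ≠ 0 := by
    by_contra h
    push Not at h
    exact hjE (WithConv.ofConv_injective (LinearMap.ext fun a => h a))
  have hmem : t j ∈ Φ.range := by
    open Groth.Agent.CoalgH23 in
    refine ⟨((E j).ofConv a)⁻¹ • slice (E j).ofConv (CoalgebraStruct.comul (R := k) a), ?_⟩
    show P _ = t j
    have hs : ∀ i, (E i).ofConv (CoalgH23.slice (E j).ofConv (CoalgebraStruct.comul (R := k) a)) =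
        (E i * E j).ofConv a := by
      intro i
      rw [LinearMap.convMul_apply]
      induction CoalgebraStruct.comul (R := k) a with
      | zero => simp
      | add x y hx hy => simp only [map_add, hx, hy]
      | tmul x y => simp [CoalgH23.slice_tmul, mul_comm]
    rw [map_smul, hP, Finset.sum_eq_single j]
    · rw [hs, hEE, if_pos rfl, smul_smul, inv_mul_cancel₀ ha, one_smul]
    · intro i _ hi; rw [hs, hEE, if_neg hi]; simp
    · simp
  intro y
  suffices hy : y ∈ Φ.range from hy
  induction y using MonoidAlgebra.induction_linear with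
  | zero => exact zero_mem _
  | add a b ha hb => exact add_mem ha hb
  | single m c =>
    obtain ⟨i, rfl⟩ : ∃ i, Multiplicative.ofAdd i = m := ⟨Multiplicative.toAdd m, rfl⟩
    have hi : (MonoidAlgebra.single (Multiplicative.ofAdd i) c : (MonoidAlgebra k (Multiplicative (ZMod p)))) = c • t j ^ (i / j).val := by
      simp only [t, MonoidAlgebra.single_pow, one_pow, MonoidAlgebra.smul_single, smul_eq_mul, mul_one,
        ← ofAdd_nsmul, nsmul_eq_mul, ZMod.natCast_zmod_val, div_mul_cancel₀ i hj0]
    rw [hi]
    exact Φ.range.smul_mem (pow_mem hmem _) c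

end Groth.Agent.MuCrit20
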